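import Groth.Agent.Pi1.K945.FinDesc
import Groth.Agent.EtAcyc.K219.FieldExt

/-!
# Comparison of closed fibres

`clSurj_of_stage`: `O₀ → O` a local homomorphism of strictly henselian local rings, `A₀`, `A` compatible strict
localizations of `Y₀` and `Y₁ = Y₀ ×_{O₀} O` over the closed points, `T₀ → Spec A₀` and `T₁ = T₀ ×_{A₀} A`.  If the
clopen subsets of the closed fibre of `T₀` extend to clopen subsets of `T₀`, the same is true for `T₁`.
-/

set_option autoImplicit false
universe u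

open CategoryTheory CategoryTheory.Limits AlgebraicGeometry IsLocalRing TopologicalSpace TensorProduct

namespace K945.ClComp

open K868.Bc Groth.Agent.Etrest.StrictLoc K945.ClTop K945.FinDesc

theorem range_of_isPullback {P X Y Z : Scheme.{u}} {a : P ⟶ X} {b : P ⟶ Y} {f : X ⟶ Z} {g : Y ⟶ Z}
    (h : IsPullback a b f g) : Set.range a = f ⁻¹' Set.range g := by
  rw [← Scheme.Pullback.range_fst, ← h.isoPullback_hom_fst]
  ext x
  constructor
  · rintro ⟨y, rfl⟩
    exact ⟨h.isoPullback.hom y, (Scheme.Hom.comp_apply _ _ _).symm⟩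
  · rintro ⟨y, rfl⟩
    refine ⟨h.isoPullback.inv y, ?_⟩
    rw [← Scheme.Hom.comp_apply, Iso.inv_hom_id_assoc]

/-- The closed fibre of a strict localization. -/
theorem exists_fib {O A : Type u} [CommRing O] [IsLocalRing O] [CommRing A] [IsLocalRing A]
    (hO : HenselianLocalRing O) (hO' : IsSepClosed (ResidueField O)) {Y : Scheme.{u}}
    (q : Y ⟶ Spec (CommRingCat.of O)) {σ : Spec (CommRingCat.of A) ⟶ Y} (hσ : IsStrictLoc σ)
    (hcl : q (σ (closedPoint A)) = closedPoint O) :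
    ∃ (B : Type u) (_ : CommRing B) (_ : IsLocalRing B) (iL : ResidueField O →+* B) (iR : A →+* B)
      (_ : IsLocalHom iR) (_ : iR.IsIntegral) (_ : IsPullback (spm iR) (spm iL) (σ ≫ q) (resPt O))
      (ζ : Spec (CommRingCat.of B) ⟶ pullback q (resPt O)) (_ : IsStrictLoc ζ),
      ζ ≫ pullback.fst q (resPt O) = spm iR ≫ σ ∧ ζ ≫ pullback.snd q (resPt O) = spm iL := by
  obtain ⟨β, hβ⟩ : ∃ β : O →+* A, spm β = σ ≫ q := ⟨(Spec.preimage (σ ≫ q)).hom, Spec.map_preimage _⟩
  have hβl : IsLocalHom β := by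
    apply K548.Radicial.isLocalHom_of_closedPoint
    rw [hβ]
    exact hcl
  let k := ResidueField O
  algebraize [β]
  have il' : IsLocalHom (algebraMap O A) := hβl
  have hi : Algebra.IsIntegral O k :=
    ⟨RingHom.isIntegral_of_surjective _ (residue_surjective (R := O))⟩
  have hk : HenselianLocalRing k := inferInstance
  have hk' : IsSepClosed (ResidueField k) := by
    have hi' : Algebra.IsIntegral O k := hi
    have i1 : IsLocalHom (algebraMap O k) := inferInstanceAs (IsLocalHom (residue O))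
    have := Groth.Agent.Etrest.IntTensor.isAlgebraic_residueField O k
    exact Algebra.IsAlgebraic.isSepClosed (F := ResidueField O) (E := ResidueField k)
  have i1 : IsLocalHom (algebraMap O k) := inferInstanceAs (IsLocalHom (residue O))
  obtain ⟨hloc, hL, hR, ζ, hζ, h1, h2⟩ := K157.TensorLoc.isStrictLoc_tensor
    (IsPullback.of_hasPullback q (spm (algebraMap O k)))
    (Groth.Agent.Sga1.UlaSL.isStrictLoc_id O) (Groth.Agent.Sga1.UlaSL.isStrictLoc_id k) hσ
    ((Category.comp_id _).trans (Category.id_comp _).symm) ((Category.comp_id _).trans hβ)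
  let iL : k →+* k ⊗[O] A := (Algebra.TensorProduct.includeLeft : k →ₐ[O] k ⊗[O] A).toRingHom
  let iR : A →+* k ⊗[O] A := (Algebra.TensorProduct.includeRight : A →ₐ[O] k ⊗[O] A).toRingHom
  have hpush : IsPullback (spm iR) (spm iL) (spm β) (resPt O) :=
    (isPullback_SpecMap_of_isPushout _ _ _ _ (CommRingCat.isPushout_tensorProduct O k A)).flip
  rw [hβ] at hpush
  refine ⟨k ⊗[O] A, inferInstance, hloc, iL, iR, hR, ?_, hpush, ζ, hζ, h1, h2.trans (Category.comp_id _)⟩
  exact Groth.Agent.Etrest.IntTensor.isIntegral_includeRight O k A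

section

variable {O₀ O A₀ A : Type u} [CommRing O₀] [IsLocalRing O₀] [CommRing O] [IsLocalRing O]
  [CommRing A₀] [IsLocalRing A₀] [CommRing A] [IsLocalRing A]
  (hO₀ : HenselianLocalRing O₀) (hO₀' : IsSepClosed (ResidueField O₀))
  (hO : HenselianLocalRing O) (hO' : IsSepClosed (ResidueField O))
  (g : O₀ →+* O) [hg : IsLocalHom g] (h : A₀ →+* A) [hh : IsLocalHom h]
  {Y₀ Y₁ : Scheme.{u}} {p : Y₁ ⟶ Y₀} {q : Y₁ ⟶ Spec (CommRingCat.of O)} {q₀ : Y₀ ⟶ Spec (CommRingCat.of O₀)}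
  (hY : IsPullback p q q₀ (spm g))
  {σ₀ : Spec (CommRingCat.of A₀) ⟶ Y₀} (hσ₀ : IsStrictLoc σ₀) (hcl₀ : q₀ (σ₀ (closedPoint A₀)) = closedPoint O₀)
  {σ : Spec (CommRingCat.of A) ⟶ Y₁} (hσ : IsStrictLoc σ) (hcl : q (σ (closedPoint A)) = closedPoint O)
  (hc : spm h ≫ σ₀ = σ ≫ p)
  {T₀ T₁ : Scheme.{u}} {r : T₁ ⟶ T₀} {w : T₁ ⟶ Spec (CommRingCat.of A)} {w₀ : T₀ ⟶ Spec (CommRingCat.of A₀)}
  (hT : IsPullback r w w₀ (spm h))

include hO₀ hO₀' hO hO' hY hσ₀ hcl₀ hσ hcl hc hT in
theorem clSurj_of_stage (H : ClSurj (cf (w₀ ≫ σ₀ ≫ q₀))) : ClSurj (cf (w ≫ σ ≫ q)) := by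
  obtain ⟨B₀, _, _, iL₀, iR₀, hl₀, hi₀, hp₀, ζ₀, hζ₀, e1₀, e2₀⟩ := exists_fib hO₀ hO₀' q₀ hσ₀ hcl₀
  obtain ⟨B, _, _, iL, iR, hl, hi, hp, ζ, hζ, e1, e2⟩ := exists_fib hO hO' q hσ hcl
  let i : ResidueField O₀ →+* ResidueField O := ResidueField.map g
  have hgi : resPt O ≫ spm g = spm i ≫ resPt O₀ := by
    change spm _ ≫ spm _ = spm _ ≫ spm _
    rw [← spm_comp, ← spm_comp]
    rfl
  -- the map of the closed fibres of the strict localizations
  have ew : (spm iR ≫ spm h) ≫ σ₀ ≫ q₀ = (spm iL ≫ spm i) ≫ resPt O₀ := by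
    calc (spm iR ≫ spm h) ≫ σ₀ ≫ q₀ = spm iR ≫ (spm h ≫ σ₀) ≫ q₀ := by simp only [Category.assoc]
      _ = (spm iR ≫ σ ≫ q) ≫ spm g := by rw [hc]; simp only [Category.assoc, hY.w]
      _ = _ := by rw [hp.w, Category.assoc, hgi, Category.assoc]
  obtain ⟨φ, hφ⟩ : ∃ φ : B₀ →+* B, spm φ = hp₀.lift (spm iR ≫ spm h) (spm iL ≫ spm i) ew :=
    ⟨(Spec.preimage (hp₀.lift (spm iR ≫ spm h) (spm iL ≫ spm i) ew)).hom, Spec.map_preimage _⟩
  have f1 : spm φ ≫ spm iR₀ = spm iR ≫ spm h := by rw [hφ, hp₀.lift_fst]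
  have f2 : spm φ ≫ spm iL₀ = spm iL ≫ spm i := by rw [hφ, hp₀.lift_snd]
  have hφl : IsLocalHom φ := by
    apply K548.Radicial.isLocalHom_of_closedPoint
    apply eq_closedPoint_of_integral iR₀ hi₀
    have h3 := congrArg (fun (m : Spec (CommRingCat.of B) ⟶ Spec (CommRingCat.of A₀)) => m (closedPoint B)) f1
    have h4 : spm h (spm iR (closedPoint B)) = closedPoint A₀ := by
      rw [closedPoint_spm iR, closedPoint_spm h]
    exact h3.trans h4
  -- the base change of the fibres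
  have hs : IsPullback (pullback.lift (pullback.fst q (resPt O) ≫ p) (pullback.snd q (resPt O) ≫ spm i) (by
      rw [Category.assoc, hY.w, pullback.condition_assoc, hgi, Category.assoc]) :
        pullback q (resPt O) ⟶ pullback q₀ (resPt O₀)) (pullback.snd q (resPt O)) (pullback.snd q₀ (resPt O₀))
      (spm i) := by
    refine IsPullback.of_right (h₁₂ := pullback.fst q₀ (resPt O₀)) (v₁₃ := q₀) (h₂₂ := resPt O₀) ?_
      (pullback.lift_snd _ _ _) (IsPullback.of_hasPullback q₀ (resPt O₀))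
    rw [pullback.lift_fst, ← hgi]
    exact (IsPullback.of_hasPullback q (resPt O)).paste_horiz hY
  have hcs : K548.Ac.IsCSub (spm φ) := by
    refine K219.FieldExt.isCSub_of_isPullback i (pullback.snd q₀ (resPt O₀)) hζ₀ hs hζ φ ?_
    apply pullback.hom_ext
    · rw [Category.assoc, e1₀, Category.assoc, pullback.lift_fst, ← Category.assoc, f1, Category.assoc, hc,
        ← Category.assoc ζ, e1, Category.assoc]
    · rw [Category.assoc, e2₀, Category.assoc, pullback.lift_snd, f2, ← Category.assoc ζ, e2]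
  -- the closed fibres of `T₀`, `T₁`
  have hF₀ : IsPullback (pullback.fst w₀ (spm iR₀)) (pullback.snd w₀ (spm iR₀)) w₀ (spm iR₀) :=
    IsPullback.of_hasPullback _ _
  have hF : IsPullback (pullback.fst w (spm iR)) (pullback.snd w (spm iR)) w (spm iR) :=
    IsPullback.of_hasPullback _ _
  let s : pullback w (spm iR) ⟶ pullback w₀ (spm iR₀) :=
    pullback.lift (pullback.fst w (spm iR) ≫ r) (pullback.snd w (spm iR) ≫ spm φ) (by
      rw [Category.assoc, hT.w, pullback.condition_assoc, Category.assoc, f1])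
  have hs1 : s ≫ pullback.fst w₀ (spm iR₀) = pullback.fst w (spm iR) ≫ r := pullback.lift_fst _ _ _
  have hs2 : s ≫ pullback.snd w₀ (spm iR₀) = pullback.snd w (spm iR) ≫ spm φ := pullback.lift_snd _ _ _
  have hs3 : IsPullback s (pullback.snd w (spm iR)) (pullback.snd w₀ (spm iR₀)) (spm φ) := by
    refine IsPullback.of_right (h₁₂ := pullback.fst w₀ (spm iR₀)) (v₁₃ := w₀) (h₂₂ := spm iR₀) ?_
      hs2 hF₀
    rw [hs1, f1]
    exact hF.paste_horiz hT
  have hcs' : K548.Ac.IsCSub s := hcs.of_isPullback hs3.flip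
  -- the ranges
  have hr₀ : Set.range (pullback.fst w₀ (spm iR₀)) = cf (w₀ ≫ σ₀ ≫ q₀) := by
    rw [range_of_isPullback (hF₀.paste_vert hp₀), range_resPt]
    rfl
  have hr : Set.range (pullback.fst w (spm iR)) = cf (w ≫ σ ≫ q) := by
    rw [range_of_isPullback (hF.paste_vert hp), range_resPt]
    rfl
  have hc₀ : IsClosedImmersion (pullback.fst w₀ (spm iR₀)) := by
    have := MorphismProperty.of_isPullback (P := @IsClosedImmersion) (hF₀.paste_vert hp₀).flip inferInstance
    exact this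
  have hc₁ : IsClosedImmersion (pullback.fst w (spm iR)) := by
    have := MorphismProperty.of_isPullback (P := @IsClosedImmersion) (hF.paste_vert hp).flip inferInstance
    exact this
  rw [← hr₀, clSurj_iff_of_embedding (pullback.fst w₀ (spm iR₀)).isClosedEmbedding.isEmbedding] at H
  rw [← hr, clSurj_iff_of_embedding (pullback.fst w (spm iR)).isClosedEmbedding.isEmbedding]
  intro E' hE'
  obtain ⟨E₁, hE₁, rfl⟩ := hcs'.exists_clopen hE'
  obtain ⟨E₀, hE₀, rfl⟩ := H E₁ hE₁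
  refine ⟨r ⁻¹' E₀, hE₀.preimage r.continuous, ?_⟩
  ext z
  simp only [Set.mem_preimage, ← Scheme.Hom.comp_apply]
  rw [hs1]

end

end K945.ClComp
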