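import Groth.Agent.Pi1.K945.FinDesc
import Groth.Agent.EtAcyc.K157.FinFam
import Groth.Agent.S17690
import Groth.Agent.S2656
import Groth.Agent.S0566

/-!
# Reduction to normal bases

`exists_normal_cover`: a ring of finite type over `ℤ` has a finite family of finite algebras which are normal domains
and whose spectra are jointly surjective.
`ffAt_of_ffnor`: `FFnor` implies `FFAt` for strict localizations of schemes of finite type over `ℤ`.
-/

set_option autoImplicit false
universe u

open CategoryTheory CategoryTheory.Limits AlgebraicGeometry IsLocalRing TopologicalSpace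

namespace K945.NorBase

open K868.Bc Groth.Agent Groth.Agent.Etrest.StrictLoc K945.ClTop K945.FinDesc

theorem isNagata_uliftInt : CAlg.IsNagata (ULift.{u} ℤ) := by
  have h1 : IsPrincipalIdealRing (ULift.{u} ℤ) :=
    IsPrincipalIdealRing.of_surjective (ULift.ringEquiv.symm : ℤ ≃+* ULift.{u} ℤ).toRingHom
      (ULift.ringEquiv.symm : ℤ ≃+* ULift.{u} ℤ).surjective
  have h2 : IsDomain (ULift.{u} ℤ) := (ULift.ringEquiv : ULift.{u} ℤ ≃+* ℤ).toMulEquiv.isDomain _
  have h3 : CharZero (ULift.{u} ℤ) :=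
    charZero_of_injective_ringHom (f := (ULift.ringEquiv.symm : ℤ ≃+* ULift.{u} ℤ).toRingHom)
      (ULift.ringEquiv.symm : ℤ ≃+* ULift.{u} ℤ).injective
  exact Groth.Agent.S2656.result (ULift.{u} ℤ)

theorem isNagata (R : Type u) [CommRing R] (h1 : (Int.castRingHom R).FiniteType) : CAlg.IsNagata R := by
  have h2 : ((Int.castRingHom R).comp (ULift.ringEquiv : ULift.{u} ℤ ≃+* ℤ).toRingHom).FiniteType :=
    h1.comp (RingHom.FiniteType.of_surjective _
      (ULift.ringEquiv : ULift.{u} ℤ ≃+* ℤ).surjective)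
  exact @S0566.result (ULift.{u} ℤ) _ isNagata_uliftInt R _
    ((Int.castRingHom R).comp (ULift.ringEquiv : ULift.{u} ℤ ≃+* ℤ).toRingHom).toAlgebra h2

/-- The normalization of a domain of finite type over `ℤ` is finite. -/
theorem exists_normal (R : Type u) [CommRing R] [IsDomain R] (hR : CAlg.IsNagata R) :
    ∃ (E : Type u) (_ : CommRing E) (_ : IsDomain E) (_ : IsIntegrallyClosed E) (φ : R →+* E), φ.Finite ∧
      Function.Injective φ := by
  have h := S17690.finite_integralClosure R (FractionRing R) (FractionRing R) hR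
  refine ⟨integralClosure R (FractionRing R), inferInstance, inferInstance,
    integralClosure.isIntegrallyClosedOfFiniteExtension (FractionRing R), algebraMap _ _, ?_, ?_⟩
  · exact RingHom.finite_algebraMap.2 h
  · intro a b hab
    exact IsFractionRing.injective R (FractionRing R) (congrArg Subtype.val hab)

/-- Finite covers by normal domains. -/
theorem exists_normal_cover (R : Type u) [CommRing R] [Algebra.FiniteType ℤ R] :
    ∃ (ι : Type u) (_ : Finite ι) (E : ι → Type u) (_ : ∀ i, CommRing (E i)) (_ : ∀ i, IsDomain (E i))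
      (_ : ∀ i, IsIntegrallyClosed (E i)) (φ : ∀ i, R →+* E i), (∀ i, (φ i).Finite) ∧
      ∀ p : PrimeSpectrum R, ∃ i, p ∈ Set.range (PrimeSpectrum.comap (φ i)) := by
  have hN : IsNoetherianRing R := Algebra.FiniteType.isNoetherianRing ℤ R
  have h0 : Finite (minimalPrimes R) := (minimalPrimes.finite_of_isNoetherianRing R).to_subtype
  have hp (p : minimalPrimes R) : p.1.IsPrime := p.2.1.1
  have h1 (p : minimalPrimes R) : ∃ (E : Type u) (_ : CommRing E) (_ : IsDomain E) (_ : IsIntegrallyClosed E)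
      (φ : R →+* E), φ.Finite ∧ RingHom.ker φ = p.1 := by
    have i1 := hp p
    have i2 : (Int.castRingHom (R ⧸ p.1)).FiniteType := by
      have h5 : (algebraMap ℤ R).FiniteType := RingHom.finiteType_algebraMap.2 inferInstance
      have h6 := (RingHom.FiniteType.of_surjective _ (Ideal.Quotient.mk_surjective (I := p.1))).comp h5
      rwa [RingHom.ext_int ((Ideal.Quotient.mk p.1).comp (algebraMap ℤ R)) (Int.castRingHom _)] at h6
    obtain ⟨E, e1, e2, e3, φ, hφ, hinj⟩ := exists_normal (R ⧸ p.1) (isNagata _ i2)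
    refine ⟨E, e1, e2, e3, φ.comp (Ideal.Quotient.mk p.1), ?_, ?_⟩
    · exact hφ.comp (RingHom.Finite.of_surjective _ Ideal.Quotient.mk_surjective)
    · rw [RingHom.ker_comp_of_injective _ hinj, Ideal.mk_ker]
  choose E e1 e2 e3 φ hφ hker using h1
  refine ⟨minimalPrimes R, h0, E, e1, e2, e3, φ, hφ, fun q => ?_⟩
  obtain ⟨p, hp1, hp2⟩ := Ideal.exists_minimalPrimes_le (I := (⊥ : Ideal R)) (J := q.asIdeal) bot_le
  refine ⟨⟨p, hp1⟩, ?_⟩
  obtain ⟨φp, hφp⟩ : ∃ φp : R →+* E ⟨p, hp1⟩, φp = φ ⟨p, hp1⟩ := ⟨_, rfl⟩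
  have h3 : φp.IsIntegral := by
    rw [hφp]
    exact (hφ ⟨p, hp1⟩).to_isIntegral
  have h4 : RingHom.ker φp ≤ q.asIdeal := by
    rw [hφp, show RingHom.ker (φ ⟨p, hp1⟩) = p from hker ⟨p, hp1⟩]
    exact hp2
  algebraize [φp]
  obtain ⟨Q, -, hQ1, hQ2⟩ := Ideal.exists_ideal_over_prime_of_isIntegral q.asIdeal (⊥ : Ideal (E ⟨p, hp1⟩))
    (by exact h4)
  refine ⟨⟨Q, hQ1⟩, PrimeSpectrum.ext ?_⟩
  rw [← hφp]
  exact hQ2

/-- The stalks of the spectrum of a normal domain are normal. -/
theorem isIntegrallyClosed_stalk (E : Type u) [CommRing E] [IsDomain E] [IsIntegrallyClosed E]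
    (z : Spec (CommRingCat.of E)) : IsIntegrallyClosed ((Spec (CommRingCat.of E)).presheaf.stalk z) := by
  let : Algebra E ((Spec (CommRingCat.of E)).presheaf.stalk z) := StructureSheaf.stalkAlgebra E z
  have hz : z.asIdeal.IsPrime := z.isPrime
  have : IsLocalization.AtPrime ((Spec (CommRingCat.of E)).presheaf.stalk z) z.asIdeal :=
    StructureSheaf.IsLocalization.to_stalk E z
  exact isIntegrallyClosed_of_isLocalization _ z.asIdeal.primeCompl
    (Ideal.primeCompl_le_nonZeroDivisors _)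

theorem finite_pi {R : Type u} [CommRing R] {κ : Type u} [Finite κ] {E : κ → Type u} [∀ i, CommRing (E i)]
    (φ : ∀ i, R →+* E i) (h : ∀ i, (φ i).Finite) : (RingHom.pi φ).Finite := by
  let (i : κ) : Algebra R (E i) := (φ i).toAlgebra
  have h1 (i : κ) : Module.Finite R (E i) := h i
  have h2 : Module.Finite R (∀ i, E i) := inferInstance
  exact RingHom.finite_algebraMap.2 h2

theorem ffAt_of_ffnor {n : ℕ} {X Y S : Scheme.{u}} {f : X ⟶ Y} {b : Y ⟶ S} (hf : Faith f b) (h : FFnor n f b)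
    {R : Type u} [CommRing R] (hR : Algebra.FiniteType ℤ R) (w : Spec (CommRingCat.of R) ⟶ S)
    [LocallyOfFiniteType w] {O : Type u} [CommRing O] [IsLocalRing O]
    (τ : Spec (CommRingCat.of O) ⟶ Spec (CommRingCat.of R)) (hτ : IsStrictLoc τ) (hn : IsUnit (n : O)) :
    FFAt n f b O (τ ≫ w) := by
  obtain ⟨κ, _, E, _, _, _, φ, hφ, hs⟩ := exists_normal_cover R
  let q : Spec (CommRingCat.of (∀ i, E i)) ⟶ Spec (CommRingCat.of R) := spm (RingHom.pi φ)
  let j (i : κ) : Spec (CommRingCat.of (E i)) ⟶ Spec (CommRingCat.of (∀ i, E i)) := spm (Pi.evalRingHom (E ·) i)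
  have hjq (i : κ) : j i ≫ q = spm (φ i) := by
    change spm _ ≫ spm _ = _
    rw [← spm_comp]
    rfl
  have hj (i : κ) : IsOpenImmersion (j i) :=
    AlgebraicGeometry.instIsOpenImmersionMapOfHomForallEvalRingHom.{u, u} i E
  have hjs : ∀ z : Spec (CommRingCat.of (∀ i, E i)), ∃ i, z ∈ Set.range (j i) := by
    intro z
    obtain ⟨i, y, hy⟩ := PrimeSpectrum.exists_comap_evalRingHom_eq z
    exact ⟨i, y, hy⟩
  have hqf : IsFinite q := by
    rw [IsFinite.SpecMap_iff]
    exact finite_pi φ hφ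
  have hqs : Surjective q := by
    constructor
    intro p
    obtain ⟨i, y, hy⟩ := hs p
    refine ⟨j i y, ?_⟩
    have h1 := congrArg (fun (m : Spec (CommRingCat.of (E i)) ⟶ Spec (CommRingCat.of R)) => m y) (hjq i)
    exact h1.trans hy
  obtain ⟨ι, _, D, _, _, ρ, α, hρ, hα, hint, hcomm, hsurj⟩ := K157.FinFam.exists_family q hτ
  refine ffAt_of_family hf hτ.henselian hτ.sepClosed _ D α hα hint hsurj fun i => ?_
  obtain ⟨k, hk⟩ := hjs (ρ i (closedPoint (D i)))
  obtain ⟨ρ', hρ'⟩ := Groth.Agent.Etbc.H192.Glue.exists_lift (j k) (ρ i) hk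
  have hρs : IsStrictLoc ρ' := by
    have h1 := hρ i
    rw [← hρ'] at h1
    exact h1.of_comp (j k)
  have e1 : spm (α i) ≫ τ ≫ w = ρ' ≫ (spm (φ k) ≫ w) := by
    rw [← Category.assoc, hcomm i, ← hρ', Category.assoc, Category.assoc, ← hjq k, Category.assoc]
  rw [e1]
  have i1 : LocallyOfFiniteType (spm (φ k)) := by
    have : IsFinite (spm (φ k)) := by
      rw [IsFinite.SpecMap_iff]
      exact hφ k
    infer_instance
  intro A _ _ Y₁ c b₁ hY σ hσ hcl XA x fA hX G _ _ hG P r hP
  exact h (D i) A (by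
      have := hn.map (α i)
      rwa [map_natCast] at this) (Spec (CommRingCat.of (E k))) inferInstance
    (isIntegrallyClosed_stalk (E k)) (spm (φ k) ≫ w) inferInstance ρ' hρs c b₁ hY σ hσ hcl x fA hX G hG P r hP

end K945.NorBase
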