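import Groth.Agent.Pi1.K945.Lim
import Groth.Agent.Pi1.K945.ClComp
import Groth.Agent.Pi1.K945.NorBase
import Groth.Agent.EtAcyc.K548.Good

/-!
# Full faithfulness for principal covers: reduction to normal bases of finite type over `ℤ`

`ff_of_nor`: `Faith` and `FFnor` imply `FF`.
-/

set_option autoImplicit false
universe u

open CategoryTheory CategoryTheory.Limits AlgebraicGeometry IsLocalRing TopologicalSpace

namespace K945.LimNor

open K868.Bc Groth.Agent Groth.Agent.Etrest.StrictLoc K945.ClTop K945.FinDesc Groth.Agent.Pi1A.FEtAffine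

/-- The case of the standard fibre products. -/
theorem clSurj_std {n : ℕ} {X Y S : Scheme.{u}} {f : X ⟶ Y} {b : Y ⟶ S} [QuasiCompact f] [QuasiSeparated f]
    (hf : Faith f b) (h : FFnor n f b) {R : Type u} [CommRing R] (hR : Algebra.FiniteType ℤ R)
    (w : Spec (CommRingCat.of R) ⟶ S) [LocallyOfFiniteType w] {O : Type u} [CommRing O] [HenselianLocalRing O]
    [IsSepClosed (ResidueField O)] [Algebra R O] (hn : IsUnit (n : O))
    {A : Type u} [CommRing A] [IsLocalRing A]
    {σ : Spec (CommRingCat.of A) ⟶ pullback b (spm (algebraMap R O) ≫ w)} (hσ : IsStrictLoc σ)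
    (hcl : pullback.snd b (spm (algebraMap R O) ≫ w) (σ (closedPoint A)) = closedPoint O)
    (G : Type) [Group G] [Finite G] (hG : Nat.card G ∣ n)
    (P : FEt.Cat (pullback f (σ ≫ pullback.fst b (spm (algebraMap R O) ≫ w))))
    (ρ : G →* Aut P) (hP : SGA1t.IsPrincipal G P ρ) :
    ClSurj (cf ((P.hom ≫ pullback.snd f (σ ≫ pullback.fst b (spm (algebraMap R O) ≫ w))) ≫ σ ≫
      pullback.snd b (spm (algebraMap R O) ≫ w))) := by
  obtain ⟨R₀, _, _, hft, O₀, _, _, τ₀, hτ₀, g, hg, eO, A₀, _, _, σ₀, hσ₀, h₀, hh, e1, e2, W, ρ₀, hW, r, hr⟩ :=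
    K945.Lim.exists_data w b f hσ G P ρ hP
  let v : Spec (CommRingCat.of R₀) ⟶ S := spm (algebraMap R R₀) ≫ w
  have hv : LocallyOfFiniteType v := by
    have : LocallyOfFiniteType (spm (algebraMap R R₀)) := by
      rw [HasRingHomProperty.Spec_iff (P := @LocallyOfFiniteType)]
      exact RingHom.finiteType_algebraMap.2 hft
    infer_instance
  have hR₀ : Algebra.FiniteType ℤ R₀ := Algebra.FiniteType.trans hR hft
  have hn₀ : IsUnit (n : O₀) := by
    apply hg.map_nonunit
    rwa [map_natCast]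
  have key := K945.NorBase.ffAt_of_ffnor hf h hR₀ v τ₀ hτ₀ hn₀
  have hcl₀ : pullback.snd b (τ₀ ≫ v) (σ₀ (closedPoint A₀)) = closedPoint O₀ := by
    have h3 := congrArg (fun (m : Spec (CommRingCat.of A) ⟶ Spec (CommRingCat.of O₀)) => m (closedPoint A)) e2
    have h4 : (spm h₀ ≫ σ₀ ≫ pullback.snd b (τ₀ ≫ v)) (closedPoint A) =
        pullback.snd b (τ₀ ≫ v) (σ₀ (spm h₀ (closedPoint A))) := rfl
    have h5 : (σ ≫ pullback.snd b (spm (algebraMap R O) ≫ w) ≫ spm g) (closedPoint A) =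
        spm g (pullback.snd b (spm (algebraMap R O) ≫ w) (σ (closedPoint A))) := rfl
    rw [closedPoint_spm h₀] at h4
    rw [hcl, closedPoint_spm g] at h5
    exact h4.symm.trans (h3.trans h5)
  have H := key A₀ (pullback.fst b (τ₀ ≫ v)) (pullback.snd b (τ₀ ≫ v)) (IsPullback.of_hasPullback _ _) σ₀ hσ₀ hcl₀
    (pullback.fst f (σ₀ ≫ pullback.fst b (τ₀ ≫ v))) (pullback.snd f (σ₀ ≫ pullback.fst b (τ₀ ≫ v)))
    (IsPullback.of_hasPullback _ _) G hG W ρ₀ hW
  let p : pullback b (spm (algebraMap R O) ≫ w) ⟶ pullback b (τ₀ ≫ v) :=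
    pullback.lift (pullback.fst b _) (pullback.snd b _ ≫ spm g) (by
      rw [pullback.condition, Category.assoc, eO])
  have hp : IsPullback p (pullback.snd b (spm (algebraMap R O) ≫ w)) (pullback.snd b (τ₀ ≫ v)) (spm g) := by
    refine IsPullback.of_right (h₁₂ := pullback.fst b (τ₀ ≫ v)) (v₁₃ := b) (h₂₂ := τ₀ ≫ v) ?_
      (pullback.lift_snd _ _ _) (IsPullback.of_hasPullback _ _)
    rw [pullback.lift_fst, eO]
    exact IsPullback.of_hasPullback _ _
  refine K945.ClComp.clSurj_of_stage hτ₀.henselian hτ₀.sepClosed inferInstance inferInstance g h₀ hp hσ₀ hcl₀ hσ hcl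
    ?_ hr (T₀ := W.left) (w₀ := W.hom ≫ pullback.snd f (σ₀ ≫ pullback.fst b (τ₀ ≫ v))) ?_
  · apply pullback.hom_ext
    · rw [Category.assoc, Category.assoc, pullback.lift_fst]
      exact e1
    · rw [Category.assoc, Category.assoc, pullback.lift_snd]
      exact e2
  · rw [Category.assoc]
    exact H

/-- **Reduction of full faithfulness to strict localizations of normal integral schemes of finite type.** -/
theorem ff_of_nor' {n : ℕ} {X Y S : Scheme.{u}} (hS : FTZ S) (f : X ⟶ Y) (b : Y ⟶ S) [QuasiCompact f]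
    [QuasiSeparated f] (hf : Faith f b) (h : FFnor n f b) : FF n f b := by
  intro O A _ _ _ _ hO hO' hn t Y₁ c b₁ hY σ hσ hcl XA x fA hX G _ _ hG P ρ hP
  obtain ⟨U, hU, hUt, -⟩ := exists_isAffineOpen_mem_and_subset (x := t (closedPoint O)) (U := ⊤) trivial
  obtain ⟨t', ht'⟩ := Groth.Agent.Etbc.H192.Glue.exists_lift hU.fromSpec t (by
    rw [hU.range_fromSpec]
    exact hUt)
  obtain ⟨a, ha⟩ : ∃ a : Γ(S, U) →+* O, spm a = t' := ⟨(Spec.preimage t').hom, Spec.map_preimage _⟩
  subst ha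
  let R : Type u := Γ(S, U)
  have hR : Algebra.FiniteType ℤ R := hS U hU
  algebraize [a]
  let w : Spec (CommRingCat.of R) ⟶ S := hU.fromSpec
  have hw : LocallyOfFiniteType w := inferInstanceAs (LocallyOfFiniteType hU.fromSpec)
  have et : spm (algebraMap R O) ≫ w = t := ht'
  clear_value w
  subst et
  let σ' : Spec (CommRingCat.of A) ⟶ pullback b (spm (algebraMap R O) ≫ w) := σ ≫ hY.isoPullback.hom
  have hσ' : IsStrictLoc σ' := hσ.comp hY.isoPullback.hom
  have e1 : σ' ≫ pullback.fst b (spm (algebraMap R O) ≫ w) = σ ≫ c := by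
    rw [Category.assoc, hY.isoPullback_hom_fst]
  have e2 : σ' ≫ pullback.snd b (spm (algebraMap R O) ≫ w) = σ ≫ b₁ := by
    rw [Category.assoc, hY.isoPullback_hom_snd]
  have hcl' : pullback.snd b (spm (algebraMap R O) ≫ w) (σ' (closedPoint A)) = closedPoint O := by
    refine Eq.trans ?_ hcl
    exact congrArg (fun (m : Spec (CommRingCat.of A) ⟶ Spec (CommRingCat.of O)) => m (closedPoint A)) e2
  rw [← e1] at hX
  let e : pullback f (σ' ≫ pullback.fst b (spm (algebraMap R O) ≫ w)) ≅ XA := hX.isoPullback.symm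
  have he : e.hom ≫ fA = pullback.snd f (σ' ≫ pullback.fst b (spm (algebraMap R O) ≫ w)) :=
    hX.isoPullback_inv_snd
  let P' : FEt.Cat (pullback f (σ' ≫ pullback.fst b (spm (algebraMap R O) ≫ w))) := (FEt.restrict e.hom).obj P
  have key := clSurj_std hf h hR w hn hσ' hcl' G hG P' (((FEt.restrict e.hom).mapAut P).comp ρ)
    (Groth.Agent.Pi1.H408.PrincRestrict.isPrincipal_restrict e.hom P ρ hP)
  have hi : IsIso (proj e.hom P) := inferInstance
  let e' : P.left ≅ P'.left := (asIso (proj e.hom P)).symm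
  refine clSurj_homeo e' _ _ ?_ key
  rw [← cancel_epi (proj e.hom P)]
  have h1 : proj e.hom P ≫ e'.hom = 𝟙 _ := (asIso (proj e.hom P)).hom_inv_id
  have h2 : proj e.hom P ≫ P.hom = P'.hom ≫ e.hom := (isPullback e.hom P).w
  rw [← Category.assoc, h1, Category.id_comp, e2, ← he]
  simp only [Category.assoc]
  rw [← Category.assoc P'.hom, ← h2]
  exact Category.assoc _ _ _

theorem ff_of_nor (n : ℕ) {X S : Scheme.{u}} (hS : K868.Bc.FTZ S) (g : X ⟶ S) [LocallyOfFinitePresentation g]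
    (V : X.Opens) [QuasiCompact V.ι] (hfaith : K868.Bc.Faith V.ι g)
    (_hfld : ∀ (k k' : Type u) [Field k] [Field k'] [IsSepClosed k] [IsSepClosed k'] (i : k →+* k'),
      K548.Good.IsGood (spm i)) (h : K868.Bc.FFnor n V.ι g) : K868.Bc.FF n V.ι g :=
  ff_of_nor' hS V.ι g hfaith h

end K945.LimNor
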