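import Groth.Agent.Pi1.K868.BcDef
import Groth.Agent.EtAcyc.K157.ClDef

/-!
# Clopen subsets: topological lemmas

* `exists_clopen_of_quot`: quotient maps with connected fibres.
* `clSurj_of_family`: descent of clopen subsets along a finite family of closed maps.
* `clInj_preimage`: clopen subsets of finite étale covers.
* `clSurj_iff`, `clInj_iff`: the closed fibre as a subset and as a scheme.
-/

set_option autoImplicit false
universe u

open CategoryTheory CategoryTheory.Limits AlgebraicGeometry IsLocalRing TopologicalSpace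

namespace K945.ClTop

open K868.Bc K157.ClDef Groth.Agent.Etrest.StrictLoc

section Top

variable {T T' : Type*} [TopologicalSpace T] [TopologicalSpace T']

/-- Clopen subsets of the source of a quotient map with connected fibres come from the target. -/
theorem exists_clopen_of_quot {g : T' → T} (hg : Topology.IsQuotientMap g)
    (hc : ∀ t, IsPreconnected (g ⁻¹' {t})) (E' : Set T') (hE' : IsClopen E') :
    ∃ E : Set T, IsClopen E ∧ g ⁻¹' E = E' := by
  have h1 : g ⁻¹' (g '' E') = E' := by
    apply Set.Subset.antisymm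
    · rintro x ⟨y, hy, hxy⟩
      have h2 := (hc (g x)).subset_isClopen hE' ⟨y, hxy, hy⟩
      exact h2 rfl
    · exact Set.subset_preimage_image g E'
  refine ⟨g '' E', ?_, h1⟩
  rw [← hg.isClopen_preimage, h1]
  exact hE'

theorem clInj_preimage {g : T' → T} (ho : IsOpenMap g) (hcl : IsClosedMap g) {W : Set T}
    (h : ClInj W) : ClInj (g ⁻¹' W) := by
  intro C hC hCW
  have h1 := h (g '' C) ⟨hcl _ hC.1, ho _ hC.2⟩ (by
    rw [Set.eq_empty_iff_forall_notMem]
    rintro _ ⟨⟨x, hx, rfl⟩, hxW⟩
    exact Set.eq_empty_iff_forall_notMem.1 hCW x ⟨hx, hxW⟩)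
  exact Set.image_eq_empty.1 h1

/-- Clopen subsets descend along finite jointly surjective families of closed maps. -/
theorem clSurj_of_family {ι : Type*} [Finite ι] {T' : ι → Type*} [∀ i, TopologicalSpace (T' i)]
    (r : ∀ i, T' i → T) (hcont : ∀ i, Continuous (r i)) (hr : ∀ i, IsClosedMap (r i))
    (hsurj : ∀ t, ∃ i, t ∈ Set.range (r i)) (W : Set T) (h : ∀ i, ClSurj (r i ⁻¹' W))
    {T'' : ι → ι → Type*} [∀ i j, TopologicalSpace (T'' i j)] (p : ∀ i j, T'' i j → T' i)
    (q : ∀ i j, T'' i j → T' j) (hp : ∀ i j, Continuous (p i j)) (hq : ∀ i j, Continuous (q i j))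
    (hw : ∀ i j x, r i (p i j x) = r j (q i j x))
    (hex : ∀ i j (x : T' i) (y : T' j), r i x = r j y → ∃ z, p i j z = x ∧ q i j z = y)
    (hinj : ∀ i j, ClInj ((fun z => r i (p i j z)) ⁻¹' W)) : ClSurj W := by
  intro D hDW hD
  have h1 : ∀ i, ∃ C : Set (T' i), IsClopen C ∧ C ∩ (r i ⁻¹' W) = r i ⁻¹' D := by
    intro i
    refine h i (r i ⁻¹' D) (Set.preimage_mono hDW) ?_
    let m : (r i ⁻¹' W) → W := fun x => ⟨r i x.1, x.2⟩
    have hm : Continuous m := ((hcont i).comp continuous_subtype_val).subtype_mk _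
    exact hD.preimage hm
  choose C hC hCD using h1
  have key : ∀ i j (x : T' i) (y : T' j), r i x = r j y → x ∈ C i → y ∈ C j := by
    intro i j x y hxy hx
    by_contra hy
    obtain ⟨z, rfl, rfl⟩ := hex i j x y hxy
    have h2 : (p i j ⁻¹' C i) ∩ (q i j ⁻¹' (C j)ᶜ) = ∅ := by
      apply hinj i j _ (((hC i).preimage (hp i j)).inter ((hC j).compl.preimage (hq i j)))
      rw [Set.eq_empty_iff_forall_notMem]
      rintro w ⟨⟨hw1, hw2⟩, hw3⟩
      have h3 : p i j w ∈ r i ⁻¹' D := by
        rw [← hCD i]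
        exact ⟨hw1, hw3⟩
      have h4 : q i j w ∈ r j ⁻¹' D := by
        change r j (q i j w) ∈ D
        rw [← hw i j w]
        exact h3
      rw [← hCD j] at h4
      exact hw2 h4.1
    exact Set.eq_empty_iff_forall_notMem.1 h2 z ⟨hx, hy⟩
  refine ⟨⋃ i, r i '' C i, ?_, ?_⟩
  · have h5 : (⋃ i, r i '' C i)ᶜ = ⋃ i, r i '' (C i)ᶜ := by
      ext t
      constructor
      · intro ht
        obtain ⟨i, x, rfl⟩ := hsurj t
        refine Set.mem_iUnion.2 ⟨i, x, fun hx => ht (Set.mem_iUnion.2 ⟨i, x, hx, rfl⟩), rfl⟩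
      · intro ht ht'
        obtain ⟨i, x, hx, rfl⟩ := Set.mem_iUnion.1 ht
        obtain ⟨j, y, hy, hxy⟩ := Set.mem_iUnion.1 ht'
        exact hx (key j i y x hxy hy)
    constructor
    · exact isClosed_iUnion_of_finite fun i => hr i _ (hC i).1
    · rw [← isClosed_compl_iff, h5]
      exact isClosed_iUnion_of_finite fun i => hr i _ (hC i).compl.1
  · ext t
    constructor
    · rintro ⟨ht, htW⟩
      obtain ⟨i, x, hx, rfl⟩ := Set.mem_iUnion.1 ht
      have : x ∈ r i ⁻¹' D := by
        rw [← hCD i]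
        exact ⟨hx, htW⟩
      exact this
    · intro ht
      refine ⟨?_, hDW ht⟩
      obtain ⟨i, x, rfl⟩ := hsurj t
      have : x ∈ C i ∩ (r i ⁻¹' W) := by
        rw [hCD i]
        exact ht
      exact Set.mem_iUnion.2 ⟨i, x, this.1, rfl⟩

theorem clSurj_iff_of_embedding {i : T' → T} (hi : Topology.IsEmbedding i) :
    ClSurj (Set.range i) ↔ ∀ E' : Set T', IsClopen E' → ∃ E : Set T, IsClopen E ∧ i ⁻¹' E = E' := by
  let e : T' ≃ₜ Set.range i := hi.toHomeomorph
  have he : ∀ x, ((e x : Set.range i) : T) = i x := fun x => rfl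
  constructor
  · intro h E' hE'
    obtain ⟨E, hE, h2⟩ := h (i '' E') (Set.image_subset_range _ _) (by
      rw [← e.isQuotientMap.isClopen_preimage]
      convert hE' using 1
      ext x
      exact hi.injective.mem_set_image)
    refine ⟨E, hE, ?_⟩
    ext x
    constructor
    · intro hx
      have : i x ∈ i '' E' := by
        rw [← h2]
        exact ⟨hx, x, rfl⟩
      exact hi.injective.mem_set_image.1 this
    · intro hx
      have : i x ∈ E ∩ Set.range i := by
        rw [h2]
        exact ⟨x, hx, rfl⟩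
      exact this.1
  · intro h D hD hDc
    obtain ⟨E, hE, h2⟩ := h (i ⁻¹' D) (by
      have := hDc.preimage e.continuous
      exact this)
    refine ⟨E, hE, ?_⟩
    ext t
    constructor
    · rintro ⟨ht, x, rfl⟩
      have : x ∈ i ⁻¹' D := by
        rw [← h2]
        exact ht
      exact this
    · intro ht
      obtain ⟨x, rfl⟩ := hD ht
      have : x ∈ i ⁻¹' E := by
        rw [h2]
        exact ht
      exact ⟨this, x, rfl⟩

omit [TopologicalSpace T'] in
theorem clInj_iff_of_embedding (i : T' → T) :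
    ClInj (Set.range i) ↔ ∀ E : Set T, IsClopen E → i ⁻¹' E = ∅ → E = ∅ := by
  constructor
  · intro h E hE hEi
    apply h E hE
    rw [Set.eq_empty_iff_forall_notMem]
    rintro _ ⟨hx, x, rfl⟩
    exact Set.eq_empty_iff_forall_notMem.1 hEi x hx
  · intro h E hE hEi
    apply h E hE
    rw [Set.eq_empty_iff_forall_notMem]
    intro x hx
    exact Set.eq_empty_iff_forall_notMem.1 hEi (i x) ⟨hx, x, rfl⟩

end Top

section Sch

variable {T : Scheme.{u}} {O : Type u} [CommRing O] [IsLocalRing O] (q : T ⟶ Spec (CommRingCat.of O))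

theorem range_resPt : Set.range (resPt O) = {closedPoint O} := by
  ext x
  constructor
  · rintro ⟨y, rfl⟩
    exact resPt_closedPoint O y
  · rintro rfl
    exact ⟨closedPoint (ResidueField O), resPt_closedPoint O _⟩

theorem range_fst : Set.range (pullback.fst q (resPt O)) = cf q := by
  rw [Scheme.Pullback.range_fst, range_resPt]
  rfl

instance : IsClosedImmersion (resPt O) :=
  IsClosedImmersion.spec_of_surjective _ (residue_surjective)

theorem clSurj_iff : ClSurj (cf q) ↔ CSur (pullback.fst q (resPt O)) := by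
  rw [← range_fst q]
  exact clSurj_iff_of_embedding (pullback.fst q (resPt O)).isClosedEmbedding.isEmbedding

theorem clInj_iff : ClInj (cf q) ↔ CInj (pullback.fst q (resPt O)) := by
  rw [← range_fst q]
  exact clInj_iff_of_embedding _

end Sch

end K945.ClTop
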