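import Groth.Agent.Pi1.K945.ClTop
import Groth.Agent.EtAcyc.K157.TensorLoc
import Groth.Agent.Sga1.UlaSL
import Groth.Agent.Pi1.H408.PrincRestrict
import Groth.Agent.EtAcyc.K548.Radicial
import Mathlib.AlgebraicGeometry.Morphisms.Integral

/-!
# Full faithfulness for principal covers descends along finite families of integral extensions of the base

`FFAt n f b O t`: the statement `K868.Bc.FF` for one base `t : Spec O ⟶ S`.
-/

set_option autoImplicit false
universe u

open CategoryTheory CategoryTheory.Limits AlgebraicGeometry IsLocalRing TopologicalSpace TensorProduct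

namespace K945.FinDesc

open K868.Bc Groth.Agent.Etrest.StrictLoc K945.ClTop

/-- `K868.Bc.FF` for one base. -/
def FFAt (n : ℕ) {X Y S : Scheme.{u}} (f : X ⟶ Y) (b : Y ⟶ S) (O : Type u) [CommRing O] [IsLocalRing O]
    (t : Spec (CommRingCat.of O) ⟶ S) : Prop :=
  ∀ (A : Type u) [CommRing A] [IsLocalRing A] ⦃Y₁ : Scheme.{u}⦄ (c : Y₁ ⟶ Y) (b₁ : Y₁ ⟶ Spec (CommRingCat.of O))
    (_ : IsPullback c b₁ b t) (σ : Spec (CommRingCat.of A) ⟶ Y₁) (_ : IsStrictLoc σ)
    (_ : b₁ (σ (closedPoint A)) = closedPoint O)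
    ⦃XA : Scheme.{u}⦄ (x : XA ⟶ X) (fA : XA ⟶ Spec (CommRingCat.of A)) (_ : IsPullback x fA f (σ ≫ c))
    (G : Type) [Group G] [Finite G] (_ : Nat.card G ∣ n) (P : FEt.Cat XA) (ρ : G →* Aut P)
    (_ : SGA1t.IsPrincipal G P ρ),
    ClSurj (cf (P.hom ≫ fA ≫ σ ≫ b₁))

theorem closedPoint_spm {R R' : Type u} [CommRing R] [IsLocalRing R] [CommRing R'] [IsLocalRing R'] (g : R →+* R')
    [h : IsLocalHom g] : spm g (closedPoint R') = closedPoint R := by
  have : IsLocalHom (CommRingCat.ofHom g).hom := h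
  exact Spec_closedPoint (R := CommRingCat.of R) (S := CommRingCat.of R') (f := CommRingCat.ofHom g)

/-- For an integral local homomorphism of local rings, only the closed point lies over the closed point. -/
theorem eq_closedPoint_of_integral {R R' : Type u} [CommRing R] [IsLocalRing R] [CommRing R'] [IsLocalRing R']
    (g : R →+* R') (hg : g.IsIntegral) (x : Spec (CommRingCat.of R')) (hx : spm g x = closedPoint R) :
    x = closedPoint R' := by
  have h1 : x.asIdeal.comap g = maximalIdeal R := congrArg PrimeSpectrum.asIdeal hx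
  have h2 : x.asIdeal.IsMaximal := by
    have hp : x.asIdeal.IsPrime := x.isPrime
    let _ : Algebra R R' := g.toAlgebra
    refine Ideal.isMaximal_of_isIntegral_of_isMaximal_comap' g hg x.asIdeal ?_
    rw [h1]
    infer_instance
  exact PrimeSpectrum.ext (eq_maximalIdeal h2)

theorem clSurj_homeo {T T' : Scheme.{u}} {O : Type u} [CommRing O] [IsLocalRing O] (e : T' ≅ T)
    (u' : T' ⟶ Spec (CommRingCat.of O)) (u : T ⟶ Spec (CommRingCat.of O)) (h : e.hom ≫ u = u')
    (hc : ClSurj (cf u)) : ClSurj (cf u') := by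
  subst h
  intro D hD hDc
  have he : ∀ z, e.hom (e.inv z) = z := fun z => by
    rw [← Scheme.Hom.comp_apply, e.inv_hom_id]; rfl
  have he' : ∀ z, e.inv (e.hom z) = z := fun z => by
    rw [← Scheme.Hom.comp_apply, e.hom_inv_id]; rfl
  obtain ⟨C, hC, hCD⟩ := hc (e.inv ⁻¹' D) (fun z hz => by
      have h1 : (e.hom ≫ u) (e.inv z) = closedPoint O := hD hz
      rw [Scheme.Hom.comp_apply, he] at h1
      exact h1) (by
      let m : ↥(cf u) → ↥(cf (e.hom ≫ u)) := fun z => ⟨e.inv z.1, by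
        change (e.hom ≫ u) (e.inv z.1) = closedPoint O
        rw [Scheme.Hom.comp_apply, he]
        exact z.2⟩
      have hm : Continuous m := (e.inv.continuous.comp continuous_subtype_val).subtype_mk _
      exact hDc.preimage hm)
  refine ⟨e.hom ⁻¹' C, hC.preimage e.hom.continuous, ?_⟩
  ext z
  constructor
  · rintro ⟨h1, h2⟩
    have h3 : e.hom z ∈ C ∩ cf u := ⟨h1, by
      change u (e.hom z) = closedPoint O
      rw [← Scheme.Hom.comp_apply]
      exact h2⟩
    rw [hCD] at h3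
    change e.inv (e.hom z) ∈ D at h3
    rwa [he'] at h3
  · intro hz
    have h3 : e.hom z ∈ e.inv ⁻¹' D := by
      change e.inv (e.hom z) ∈ D
      rwa [he']
    rw [← hCD] at h3
    exact ⟨h3.1, hD hz⟩

theorem clInj_homeo {T T' : Scheme.{u}} {O : Type u} [CommRing O] [IsLocalRing O] (e : T' ≅ T)
    (u' : T' ⟶ Spec (CommRingCat.of O)) (u : T ⟶ Spec (CommRingCat.of O)) (h : e.hom ≫ u = u')
    (hc : ClInj (cf u)) : ClInj (cf u') := by
  subst h
  exact clInj_preimage e.hom.homeomorph.isOpenMap e.hom.homeomorph.isClosedMap hc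

section Step

variable {X Y S : Scheme.{u}} {f : X ⟶ Y} {b : Y ⟶ S} {O : Type u} [CommRing O] [IsLocalRing O]
  {t : Spec (CommRingCat.of O) ⟶ S}
  {A : Type u} [CommRing A] [IsLocalRing A] {Y₁ : Scheme.{u}} {c : Y₁ ⟶ Y} {b₁ : Y₁ ⟶ Spec (CommRingCat.of O)}
  {σ : Spec (CommRingCat.of A) ⟶ Y₁} {XA : Scheme.{u}} {x : XA ⟶ X} {fA : XA ⟶ Spec (CommRingCat.of A)}
  {G : Type} [Group G] [Finite G] {P : FEt.Cat XA} {ρ : G →* Aut P}

omit [Finite G] in
/-- Base change of all data along an integral local homomorphism `O → D`. -/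
theorem step (hO : HenselianLocalRing O) (hY : IsPullback c b₁ b t) (hσ : IsStrictLoc σ)
    (hcl : b₁ (σ (closedPoint A)) = closedPoint O) (hX : IsPullback x fA f (σ ≫ c))
    (hP : SGA1t.IsPrincipal G P ρ) {D : Type u} [CommRing D] [IsLocalRing D]
    (α : O →+* D) [hl : IsLocalHom α] (hα : α.IsIntegral) (hO' : IsSepClosed (ResidueField O)) {T' : Scheme.{u}}
    (r : T' ⟶ P.left) (v : T' ⟶ Spec (CommRingCat.of D))
    (H : IsPullback r v (P.hom ≫ fA ≫ σ ≫ b₁) (spm α)) :
    ∃ (A' : Type u) (_ : CommRing A') (_ : IsLocalRing A') (Y' : Scheme.{u}) (c' : Y' ⟶ Y)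
      (b' : Y' ⟶ Spec (CommRingCat.of D)) (_ : IsPullback c' b' b (spm α ≫ t))
      (σ' : Spec (CommRingCat.of A') ⟶ Y') (_ : IsStrictLoc σ') (_ : b' (σ' (closedPoint A')) = closedPoint D)
      (XA' : Scheme.{u}) (x' : XA' ⟶ X) (fA' : XA' ⟶ Spec (CommRingCat.of A'))
      (_ : IsPullback x' fA' f (σ' ≫ c')) (P' : FEt.Cat XA') (ρ' : G →* Aut P')
      (_ : SGA1t.IsPrincipal G P' ρ') (e : T' ≅ P'.left), e.hom ≫ P'.hom ≫ fA' ≫ σ' ≫ b' = v := by
  obtain ⟨β, hβ⟩ : ∃ β : O →+* A, spm β = σ ≫ b₁ := ⟨(Spec.preimage (σ ≫ b₁)).hom, Spec.map_preimage _⟩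
  have hβl : IsLocalHom β := by
    apply K548.Radicial.isLocalHom_of_closedPoint
    rw [hβ]
    exact hcl
  algebraize [α, β]
  have il : IsLocalHom (algebraMap O D) := hl
  have il' : IsLocalHom (algebraMap O A) := hβl
  have hi : Algebra.IsIntegral O D := ⟨hα⟩
  have hD : HenselianLocalRing D := Groth.Agent.Etrest.IntHens.henselianLocalRing_of_isIntegral O D
  have hD' : IsSepClosed (ResidueField D) := by
    have := Groth.Agent.Etrest.IntTensor.isAlgebraic_residueField O D
    exact Algebra.IsAlgebraic.isSepClosed (F := ResidueField O) (E := ResidueField D)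
  obtain ⟨hloc, hL, hR, ζ, hζ, h1, h2⟩ := K157.TensorLoc.isStrictLoc_tensor
    (IsPullback.of_hasPullback b₁ (spm (algebraMap O D)))
    (Groth.Agent.Sga1.UlaSL.isStrictLoc_id O) (Groth.Agent.Sga1.UlaSL.isStrictLoc_id D) hσ
    ((Category.comp_id _).trans (Category.id_comp _).symm) ((Category.comp_id _).trans hβ)
  let iL : D →+* D ⊗[O] A := (Algebra.TensorProduct.includeLeft : D →ₐ[O] D ⊗[O] A).toRingHom
  let iR : A →+* D ⊗[O] A := (Algebra.TensorProduct.includeRight : A →ₐ[O] D ⊗[O] A).toRingHom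
  have h2' : ζ ≫ pullback.snd b₁ (spm α) = spm iL := h2.trans (Category.comp_id _)
  have h1' : ζ ≫ pullback.fst b₁ (spm α) = spm iR ≫ σ := h1
  have hpush : IsPullback (spm iR) (spm iL) (spm β) (spm α) :=
    (isPullback_SpecMap_of_isPushout _ _ _ _ (CommRingCat.isPushout_tensorProduct O D A)).flip
  let XA' : Scheme.{u} := pullback fA (spm iR)
  let k : XA' ⟶ XA := pullback.fst fA (spm iR)
  have hXA' : IsPullback k (pullback.snd fA (spm iR)) fA (spm iR) := IsPullback.of_hasPullback _ _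
  let P' : FEt.Cat XA' := (FEt.restrict k).obj P
  have hP' : IsPullback (pullback.fst P.hom k) (pullback.snd P.hom k) P.hom k := IsPullback.of_hasPullback _ _
  have H' : IsPullback (pullback.fst P.hom k) (pullback.snd P.hom k ≫ pullback.snd fA (spm iR) ≫ spm iL)
      (P.hom ≫ fA ≫ spm β) (spm α) := hP'.paste_vert (hXA'.paste_vert hpush)
  rw [hβ] at H'
  refine ⟨D ⊗[O] A, inferInstance, hloc, pullback b₁ (spm α), pullback.fst b₁ (spm α) ≫ c, pullback.snd b₁ (spm α),
    (IsPullback.of_hasPullback b₁ (spm α)).paste_horiz hY |>.of_iso (Iso.refl _) (Iso.refl _) (Iso.refl _)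
      (Iso.refl _) (by simp) (by simp) (by simp) (by simp), ζ, hζ, ?_, XA', k ≫ x, pullback.snd fA (spm iR), ?_, P',
    ((FEt.restrict k).mapAut P).comp ρ,
    Groth.Agent.Pi1.H408.PrincRestrict.isPrincipal_restrict k P ρ hP, H.isoIsPullback _ _ H', ?_⟩
  · have : IsLocalHom iL := hL
    exact (congrArg (fun (m : Spec (CommRingCat.of (D ⊗[O] A)) ⟶ Spec (CommRingCat.of D)) =>
      m (closedPoint (D ⊗[O] A))) h2').trans (closedPoint_spm iL)
  · have h3 : IsPullback (k ≫ x) (pullback.snd fA (spm iR)) f (spm iR ≫ σ ≫ c) := hXA'.paste_horiz hX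
    have e1 : spm iR ≫ σ ≫ c = ζ ≫ pullback.fst b₁ (spm α) ≫ c := by
      rw [← Category.assoc, ← h1', Category.assoc]
    rw [e1] at h3
    exact h3
  · have h3 := H.isoIsPullback_hom_snd _ _ H'
    change (H.isoIsPullback _ _ H').hom ≫ pullback.snd P.hom k ≫ pullback.snd fA (spm iR) ≫ ζ ≫ pullback.snd b₁ (spm α) = v
    rw [h2']
    exact h3

/-- The closed fibre of the base change. -/
theorem preimage_cf {T T' : Scheme.{u}} {q : T ⟶ Spec (CommRingCat.of O)} {D : Type u} [CommRing D]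
    [IsLocalRing D] (α : O →+* D) [hl : IsLocalHom α] (hα : α.IsIntegral) (r : T' ⟶ T)
    (v : T' ⟶ Spec (CommRingCat.of D)) (w : r ≫ q = v ≫ spm α) : r ⁻¹' cf q = cf v := by
  ext z
  have h1 : q (r z) = spm α (v z) := by
    rw [← Scheme.Hom.comp_apply, w]
    rfl
  constructor
  · intro hz
    have hz' : q (r z) = closedPoint O := hz
    exact eq_closedPoint_of_integral α hα _ (h1.symm.trans hz')
  · intro hz
    have hz' : v z = closedPoint D := hz
    change q (r z) = closedPoint O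
    rw [h1, hz']
    exact closedPoint_spm α

omit [Finite G] in
theorem clInj_of_faith (hf : Faith f b) (hO : HenselianLocalRing O) (hY : IsPullback c b₁ b t) (hσ : IsStrictLoc σ)
    (hcl : b₁ (σ (closedPoint A)) = closedPoint O) (hX : IsPullback x fA f (σ ≫ c))
    (hP : SGA1t.IsPrincipal G P ρ) {D : Type u} [CommRing D] [IsLocalRing D]
    (α : O →+* D) [hl : IsLocalHom α] (hα : α.IsIntegral) (hO' : IsSepClosed (ResidueField O)) {T' : Scheme.{u}}
    (r : T' ⟶ P.left) (v : T' ⟶ Spec (CommRingCat.of D))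
    (H : IsPullback r v (P.hom ≫ fA ≫ σ ≫ b₁) (spm α)) : ClInj (r ⁻¹' cf (P.hom ≫ fA ≫ σ ≫ b₁)) := by
  rw [preimage_cf α hα r v H.w]
  have hD : HenselianLocalRing D := by
    algebraize [α]
    exact Groth.Agent.Etrest.IntHens.henselianLocalRing_of_isIntegral O D
  have hD' : IsSepClosed (ResidueField D) := by
    algebraize [α]
    have : IsLocalHom (algebraMap O D) := hl
    have := Groth.Agent.Etrest.IntTensor.isAlgebraic_residueField O D
    exact Algebra.IsAlgebraic.isSepClosed (F := ResidueField O) (E := ResidueField D)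
  obtain ⟨A', _, _, Y', c', b', hY', σ', hσ', hcl', XA', x', fA', hX', P', ρ', hP', e, he⟩ :=
    step hO hY hσ hcl hX hP α hα hO' r v H
  refine clInj_homeo e v _ he ?_
  have i1 : IsFinite P'.hom := P'.prop.1
  have i2 : Etale P'.hom := P'.prop.2
  exact clInj_preimage (W := cf (fA' ≫ σ' ≫ b')) P'.hom.isOpenMap P'.hom.isClosedMap
    (hf D A' hD hD' (spm α ≫ t) c' b' hY' σ' hσ' hcl' x' fA' hX')

theorem clSurj_of_ffAt {n : ℕ} (hn : Nat.card G ∣ n) (hO : HenselianLocalRing O) (hY : IsPullback c b₁ b t)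
    (hσ : IsStrictLoc σ)
    (hcl : b₁ (σ (closedPoint A)) = closedPoint O) (hX : IsPullback x fA f (σ ≫ c))
    (hP : SGA1t.IsPrincipal G P ρ) {D : Type u} [CommRing D] [IsLocalRing D]
    (α : O →+* D) [hl : IsLocalHom α] (hα : α.IsIntegral) (hO' : IsSepClosed (ResidueField O))
    (h : FFAt n f b D (spm α ≫ t)) {T' : Scheme.{u}}
    (r : T' ⟶ P.left) (v : T' ⟶ Spec (CommRingCat.of D))
    (H : IsPullback r v (P.hom ≫ fA ≫ σ ≫ b₁) (spm α)) : ClSurj (r ⁻¹' cf (P.hom ≫ fA ≫ σ ≫ b₁)) := by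
  rw [preimage_cf α hα r v H.w]
  obtain ⟨A', _, _, Y', c', b', hY', σ', hσ', hcl', XA', x', fA', hX', P', ρ', hP', e, he⟩ :=
    step hO hY hσ hcl hX hP α hα hO' r v H
  exact clSurj_homeo e v _ he (h A' c' b' hY' σ' hσ' hcl' x' fA' hX' G hn P' ρ' hP')

end Step

/-- Fibre products of base changes. -/
theorem exists_isPullback {T Ti Tj B Bi Bj E : Scheme.{u}} {q : T ⟶ B} {ri : Ti ⟶ T} {vi : Ti ⟶ Bi} {ai : Bi ⟶ B}
    (Hi : IsPullback ri vi q ai) {rj : Tj ⟶ T} {vj : Tj ⟶ Bj} {aj : Bj ⟶ B} (Hj : IsPullback rj vj q aj)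
    {gi : E ⟶ Bi} {gj : E ⟶ Bj} (hg : IsPullback gi gj ai aj) :
    ∃ L : pullback ri rj ⟶ E, IsPullback (pullback.fst ri rj ≫ ri) L q (gi ≫ ai) := by
  obtain ⟨L, hL1, hL2⟩ : ∃ L : pullback ri rj ⟶ E,
      L ≫ gi = pullback.fst ri rj ≫ vi ∧ L ≫ gj = pullback.snd ri rj ≫ vj :=
    ⟨hg.lift (pullback.fst ri rj ≫ vi) (pullback.snd ri rj ≫ vj) (by
        rw [Category.assoc, Category.assoc, ← Hi.w, ← Hj.w, pullback.condition_assoc]),
      hg.lift_fst _ _ _, hg.lift_snd _ _ _⟩
  have e1 : IsPullback (pullback.snd ri rj ≫ vj) (pullback.fst ri rj) aj (vi ≫ ai) := by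
    rw [← Hi.w]
    exact (IsPullback.of_hasPullback ri rj).flip.paste_horiz Hj.flip
  have e2 : IsPullback L (pullback.fst ri rj) gi vi := by
    refine IsPullback.of_right (h₁₂ := gj) (v₁₃ := aj) (h₂₂ := ai) ?_ hL1 hg.flip
    rw [hL2]
    exact e1
  exact ⟨L, e2.flip.paste_horiz Hi⟩

/-- **Descent along finite families of integral extensions of the base.** -/
theorem ffAt_of_family {n : ℕ} {X Y S : Scheme.{u}} {f : X ⟶ Y} {b : Y ⟶ S} (hf : Faith f b) {O : Type u}
    [CommRing O] [IsLocalRing O] (hO : HenselianLocalRing O) (hO' : IsSepClosed (ResidueField O))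
    (t : Spec (CommRingCat.of O) ⟶ S) {ι : Type u} [Finite ι] (D : ι → Type u) [∀ i, CommRing (D i)]
    [∀ i, IsLocalRing (D i)] (α : ∀ i, O →+* D i) (hl : ∀ i, IsLocalHom (α i)) (hα : ∀ i, (α i).IsIntegral)
    (hs : ∀ z : Spec (CommRingCat.of O), ∃ i, z ∈ Set.range (spm (α i)))
    (h : ∀ i, FFAt n f b (D i) (spm (α i) ≫ t)) : FFAt n f b O t := by
  intro A _ _ Y₁ c b₁ hY σ hσ hcl XA x fA hX G _ _ hG P ρ hP
  let q : P.left ⟶ Spec (CommRingCat.of O) := P.hom ≫ fA ≫ σ ≫ b₁
  let T' (i : ι) : Scheme.{u} := pullback q (spm (α i))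
  let r (i : ι) : T' i ⟶ P.left := pullback.fst q (spm (α i))
  let v (i : ι) : T' i ⟶ Spec (CommRingCat.of (D i)) := pullback.snd q (spm (α i))
  have H (i : ι) : IsPullback (r i) (v i) q (spm (α i)) := IsPullback.of_hasPullback _ _
  have hri (i : ι) : IsIntegralHom (r i) := by
    have h4 : IsIntegralHom (spm (α i)) := IsIntegralHom.SpecMap_iff.2 (hα i)
    exact MorphismProperty.of_isPullback (H i).flip h4
  refine clSurj_of_family (T' := fun i => T' i) (fun i => r i) (fun i => (r i).continuous)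
    (fun i => (r i).isClosedMap) ?_ _ ?_ (T'' := fun i j => ↥(pullback (r i) (r j)))
    (fun i j => pullback.fst (r i) (r j)) (fun i j => pullback.snd (r i) (r j))
    (fun i j => (pullback.fst (r i) (r j)).continuous) (fun i j => (pullback.snd (r i) (r j)).continuous)
    ?_ ?_ ?_
  · intro z
    obtain ⟨i, d, hd⟩ := hs (q z)
    obtain ⟨w, hw, -⟩ := Scheme.Pullback.exists_preimage_pullback (f := q) (g := spm (α i)) z d hd.symm
    exact ⟨i, w, hw⟩
  · intro i
    have := hl i
    exact clSurj_of_ffAt hG hO hY hσ hcl hX hP (α i) (hα i) hO' (h i) (r i) (v i) (H i)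
  · intro i j z
    rw [← Scheme.Hom.comp_apply, ← Scheme.Hom.comp_apply, pullback.condition]
  · intro i j z y hzy
    obtain ⟨w, hw1, hw2⟩ := Scheme.Pullback.exists_preimage_pullback (f := r i) (g := r j) z y hzy
    exact ⟨w, hw1, hw2⟩
  · intro i j
    have i1 := hl i
    have i2 := hl j
    algebraize [α i, α j]
    let γ₁ : D i →+* D i ⊗[O] D j := (Algebra.TensorProduct.includeLeft : D i →ₐ[O] D i ⊗[O] D j).toRingHom
    let γ₂ : D j →+* D i ⊗[O] D j := (Algebra.TensorProduct.includeRight : D j →ₐ[O] D i ⊗[O] D j).toRingHom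
    let γ : O →+* D i ⊗[O] D j := γ₁.comp (α i)
    have i3 : IsLocalHom (algebraMap O (D i)) := i1
    have i4 : IsLocalHom (algebraMap O (D j)) := i2
    have i5 : Algebra.IsIntegral O (D i) := ⟨hα i⟩
    have i6 : Algebra.IsIntegral O (D j) := ⟨hα j⟩
    have hDj : HenselianLocalRing (D j) := Groth.Agent.Etrest.IntHens.henselianLocalRing_of_isIntegral O (D j)
    have hDi : HenselianLocalRing (D i) := Groth.Agent.Etrest.IntHens.henselianLocalRing_of_isIntegral O (D i)
    have hDj' : IsSepClosed (ResidueField (D j)) := by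
      have := Groth.Agent.Etrest.IntTensor.isAlgebraic_residueField O (D j)
      exact Algebra.IsAlgebraic.isSepClosed (F := ResidueField O) (E := ResidueField (D j))
    have hDi' : IsSepClosed (ResidueField (D i)) := by
      have := Groth.Agent.Etrest.IntTensor.isAlgebraic_residueField O (D i)
      exact Algebra.IsAlgebraic.isSepClosed (F := ResidueField O) (E := ResidueField (D i))
    obtain ⟨hloc, hL, hR, -⟩ := K157.TensorLoc.isStrictLoc_tensor
      (IsPullback.of_hasPullback (spm (algebraMap O (D j))) (spm (algebraMap O (D i))))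
      (Groth.Agent.Sga1.UlaSL.isStrictLoc_id O) (Groth.Agent.Sga1.UlaSL.isStrictLoc_id (D i))
      (Groth.Agent.Sga1.UlaSL.isStrictLoc_id (D j))
      ((Category.comp_id _).trans (Category.id_comp _).symm) ((Category.comp_id _).trans (Category.id_comp _).symm)
    have hγl : IsLocalHom γ := by
      have : IsLocalHom γ₁ := hL
      exact RingHom.isLocalHom_comp γ₁ (α i)
    have hγi : γ.IsIntegral := by
      have h5 : γ₁.comp (α i) = γ₂.comp (α j) := by
        have h1 := AlgHom.comp_algebraMap (Algebra.TensorProduct.includeRight : D j →ₐ[O] D i ⊗[O] D j)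
        have h2 := AlgHom.comp_algebraMap (Algebra.TensorProduct.includeLeft : D i →ₐ[O] D i ⊗[O] D j)
        exact h2.trans h1.symm
      change (γ₁.comp (α i)).IsIntegral
      rw [h5]
      exact (hα j).trans _ _ (Groth.Agent.Etrest.IntTensor.isIntegral_includeRight O (D i) (D j))
    have hpush : IsPullback (spm γ₁) (spm γ₂) (spm (α i)) (spm (α j)) :=
      isPullback_SpecMap_of_isPushout _ _ _ _ (CommRingCat.isPushout_tensorProduct O (D i) (D j))
    obtain ⟨L, hfib⟩ := exists_isPullback (H i) (H j) hpush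
    have e3 : spm γ = spm γ₁ ≫ spm (α i) := spm_comp _ _
    rw [← e3] at hfib
    have key := clInj_of_faith (D := D i ⊗[O] D j) hf hO hY hσ hcl hX hP γ hγi hO'
      (pullback.fst (r i) (r j) ≫ r i) L hfib
    have e4 : (fun z => r i (pullback.fst (r i) (r j) z)) ⁻¹' cf (P.hom ≫ fA ≫ σ ≫ b₁) =
        (pullback.fst (r i) (r j) ≫ r i) ⁻¹' cf (P.hom ≫ fA ≫ σ ≫ b₁) := by
      ext z
      simp only [Set.mem_preimage, Scheme.Hom.comp_apply]
    rw [e4]
    exact key

end K945.FinDesc
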