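import Groth.Agent.Sga4h.SLocLim817
import Groth.Agent.Sga4h.SLoc
import Groth.Agent.Etcore.FGLim
import Groth.Agent.Etcore.PullbackLim
import Groth.Agent.EtAcyc.K548.SpreadPrin

/-!
# Principal covers over strict localizations of a base change come from a stage

`exists_stage_principal`: `T` a directed inverse system of schemes over `S` with limit `c`, `b : Y ⟶ S`,
`σ : Spec A ⟶ Y ×_S c.pt` a strict localization, `f : X ⟶ Y` and `P` a principal cover of `X ×_Y Spec A`: then `P`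
comes by base change from a strict localization of `Y ×_S T_j` for some `j`.

`exists_data`: the same for `c.pt = Spec O`, `O` strictly henselian, and `T_j` the strict localizations of the finitely
generated subalgebras.
-/

set_option autoImplicit false
universe u

open CategoryTheory CategoryTheory.Limits AlgebraicGeometry IsLocalRing TopologicalSpace Opposite

namespace K945.Lim

open Groth.Agent.Pi1A Groth.Agent.Pi1A.FEtAffine

open Groth.Agent Groth.Agent.Etrest.StrictLoc Groth.Agent.Sga4h.SLocLim817 Groth.Agent.Etcore.PullbackLim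
  Groth.Agent.Etcore.FGLim

theorem exists_isPullback_of_iso {A B : Scheme.{u}} (g : A ⟶ B) (W : FEt.Cat B) (P : FEt.Cat A)
    (e : (FEt.restrict g).obj W ≅ P) : ∃ r : P.left ⟶ W.left, IsPullback r P.hom W.hom g := by
  let e' : ((FEt.restrict g).obj W).left ≅ P.left :=
    (MorphismProperty.Over.forget FEt.prop ⊤ A ⋙ Over.forget A).mapIso e
  have he' : e'.inv ≫ ((FEt.restrict g).obj W).hom = P.hom := hom_w e.inv
  have he'' : e'.hom ≫ P.hom = ((FEt.restrict g).obj W).hom := hom_w e.hom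
  refine ⟨e'.inv ≫ FEtAffine.proj g W, ?_⟩
  refine IsPullback.of_iso (FEtAffine.isPullback g W) e' (Iso.refl _) (Iso.refl _) (Iso.refl _) ?_ ?_ ?_ ?_
  · rw [Iso.hom_inv_id_assoc]
    exact Category.comp_id _
  · exact (Category.comp_id _).trans he''.symm
  · exact (Category.comp_id _).trans (Category.id_comp _).symm
  · exact (Category.comp_id _).trans (Category.id_comp _).symm

section General

variable {J : Type u} [Preorder J] (D : Jᵒᵖ ⥤ Scheme.{u}) (c : Cone D)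
  {C : Type u} [CommRing C] [IsLocalRing C] {τ : Spec (CommRingCat.of C) ⟶ c.pt} (hτ : IsStrictLoc τ)
  (s : ∀ j : J, Stage D c τ j)

/-- The system of the spectra of the strict localizations of the stages. -/
noncomputable def Ts : Jᵒᵖ ⥤ Scheme.{u} := specSys (system D c hτ s)

theorem Ts_obj (a : Jᵒᵖ) : (Ts D c hτ s).obj a = Spec (CommRingCat.of (s a.unop).R) := rfl

noncomputable def Tc : Cone (Ts D c hτ s) := specCone _ (systemCocone D c hτ s)

theorem Tc_pt : (Tc D c hτ s).pt = Spec (CommRingCat.of C) := rfl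

theorem Ts_map {a a' : Jᵒᵖ} (h : a ⟶ a') : (Ts D c hτ s).map h = spm (tr D c hτ s h.unop) := rfl

theorem Tc_π (a : Jᵒᵖ) : (Tc D c hτ s).π.app a = spm (s a.unop).g := rfl

theorem isLimit_Tc [IsDirected J (· ≤ ·)] [Nonempty J] (hc : IsLimit c) : Nonempty (IsLimit (Tc D c hτ s)) := by
  obtain ⟨h⟩ := isColimit_system D hc hτ s
  exact ⟨isLimitSpecCone _ _ h⟩

instance isAffineHom_Ts (a a' : Jᵒᵖ) (h : a ⟶ a') : IsAffineHom ((Ts D c hτ s).map h) := by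
  unfold Ts
  infer_instance

instance isAffine_Ts (a : Jᵒᵖ) : IsAffine ((Ts D c hτ s).obj a) := by
  unfold Ts
  infer_instance

variable {S : Scheme.{u}} (v : ∀ a : Jᵒᵖ, D.obj a ⟶ S) (hv : ∀ ⦃a a' : Jᵒᵖ⦄ (h : a ⟶ a'), D.map h ≫ v a' = v a)

/-- The structure maps of the strict localizations. -/
noncomputable def str (a : Jᵒᵖ) : (Ts D c hτ s).obj a ⟶ S := (s a.unop).p ≫ v a

include hv in
theorem str_w ⦃a a' : Jᵒᵖ⦄ (h : a ⟶ a') : (Ts D c hτ s).map h ≫ str D c hτ s v a' = str D c hτ s v a := by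
  have e1 := tr_spm D c hτ s h.unop
  have e2 : (s a.unop).p ≫ D.map h ≫ v a' = (s a.unop).p ≫ v a := by rw [hv]
  calc spm (tr D c hτ s h.unop) ≫ (s a'.unop).p ≫ v a' = (spm (tr D c hτ s h.unop) ≫ (s a'.unop).p) ≫ v a' :=
        (Category.assoc _ _ _).symm
    _ = ((s a.unop).p ≫ D.map h) ≫ v a' := congrArg (· ≫ v a') e1
    _ = (s a.unop).p ≫ D.map h ≫ v a' := Category.assoc _ _ _
    _ = _ := e2

theorem π_str (a : Jᵒᵖ) : (Tc D c hτ s).π.app a ≫ str D c hτ s v a = τ ≫ c.π.app a ≫ v a := by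
  have e1 := (s a.unop).hg
  calc spm (s a.unop).g ≫ (s a.unop).p ≫ v a = (spm (s a.unop).g ≫ (s a.unop).p) ≫ v a :=
        (Category.assoc _ _ _).symm
    _ = (τ ≫ c.π.app a) ≫ v a := congrArg (· ≫ v a) e1
    _ = _ := Category.assoc _ _ _

end General

section Principal

variable {J : Type u} [Preorder J] [IsDirected J (· ≤ ·)] [Nonempty J] (T : Jᵒᵖ ⥤ Scheme.{u}) {S Y X : Scheme.{u}}
  (τ : ∀ a : Jᵒᵖ, T.obj a ⟶ S) (hτ : ∀ ⦃a b : Jᵒᵖ⦄ (h : a ⟶ b), T.map h ≫ τ b = τ a)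
  (c : Cone T) (t : c.pt ⟶ S) (ht : ∀ a, c.π.app a ≫ τ a = t) (b : Y ⟶ S) (f : X ⟶ Y)

include hτ in
theorem exists_stage_principal [QuasiCompact f] [QuasiSeparated f] (hc : IsLimit c)
    {A : Type u} [CommRing A] [IsLocalRing A] {σ : Spec (CommRingCat.of A) ⟶ pullback b t} (hσ : IsStrictLoc σ)
    (G : Type) [Group G] [Finite G] (P : FEt.Cat (pullback f (σ ≫ pullback.fst b t))) (ρ : G →* Aut P)
    (hP : SGA1t.IsPrincipal G P ρ) :
    ∃ (j : J) (A₀ : Type u) (_ : CommRing A₀) (_ : IsLocalRing A₀)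
      (σ₀ : Spec (CommRingCat.of A₀) ⟶ pullback b (τ (op j))) (_ : IsStrictLoc σ₀) (h : A₀ →+* A)
      (_ : IsLocalHom h) (_ : spm h ≫ σ₀ = σ ≫ proj T τ b c t ht (op j))
      (W : FEt.Cat (pullback f (σ₀ ≫ pullback.fst b (τ (op j))))) (ρ₀ : G →* Aut W)
      (_ : SGA1t.IsPrincipal G W ρ₀) (r : P.left ⟶ W.left),
      IsPullback r (P.hom ≫ pullback.snd f (σ ≫ pullback.fst b t))
        (W.hom ≫ pullback.snd f (σ₀ ≫ pullback.fst b (τ (op j)))) (spm h) := by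
  let T2 := sys T τ hτ b
  let c2 : Cone T2 := cone T τ hτ b c t ht
  have hc2 : IsLimit c2 := isLimitCone T τ hτ b c t ht hc
  have hσ' : IsStrictLoc (X := c2.pt) σ := hσ
  let s2 : ∀ j : J, Stage T2 c2 σ j := fun j => (exists_stage T2 c2 hσ' j).some
  let T3 := Ts T2 c2 hσ' s2
  let c3 : Cone T3 := Tc T2 c2 hσ' s2
  obtain ⟨hc3⟩ := isLimit_Tc T2 c2 hσ' s2 hc2
  let v : ∀ a : Jᵒᵖ, T2.obj a ⟶ Y := fun a => pullback.fst b (τ a)
  have hv : ∀ ⦃a a' : Jᵒᵖ⦄ (h : a ⟶ a'), T2.map h ≫ v a' = v a := fun a a' h => mapp_fst T τ hτ b h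
  let τ3 : ∀ a : Jᵒᵖ, T3.obj a ⟶ Y := fun a => str T2 c2 hσ' s2 v a
  have hτ3 : ∀ ⦃a a' : Jᵒᵖ⦄ (h : a ⟶ a'), T3.map h ≫ τ3 a' = τ3 a := fun a a' h =>
    str_w T2 c2 hσ' s2 v hv h
  let t3 : c3.pt ⟶ Y := σ ≫ pullback.fst b t
  have ht3 : ∀ a, c3.π.app a ≫ τ3 a = t3 := fun a =>
    (π_str T2 c2 hσ' s2 v a).trans (congrArg (σ ≫ ·) (proj_fst T τ b c t ht a))
  let T4 := sys T3 τ3 hτ3 f
  let c4 : Cone T4 := cone T3 τ3 hτ3 f c3 t3 ht3
  have hc4 : IsLimit c4 := isLimitCone T3 τ3 hτ3 f c3 t3 ht3 hc3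
  have i1 : ∀ (i j : Jᵒᵖ) (a : i ⟶ j), IsAffineHom (T4.map a) := fun i j a =>
    isAffineHom_mapp T3 τ3 hτ3 f (fun a b h => isAffineHom_Ts T2 c2 hσ' s2 a b h) a
  have i0 : ∀ i, IsAffine (T3.obj i) := fun i => isAffine_Ts T2 c2 hσ' s2 i
  have i2 : ∀ i, CompactSpace (T4.obj i) := fun i =>
    compactSpace_obj T3 τ3 hτ3 f i
  have i3 : ∀ i, QuasiSeparatedSpace (T4.obj i) := fun i =>
    quasiSeparatedSpace_obj T3 τ3 hτ3 f i
  obtain ⟨j, W, ρ₀, e, hW, -⟩ := K548.SpreadPrin.exists_principal hc4 G (Z := P) ρ hP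
  obtain ⟨r, h1⟩ := exists_isPullback_of_iso (c4.π.app j) W P e
  have h2 : IsPullback (proj T3 τ3 f c3 t3 ht3 j) (pullback.snd f t3) (pullback.snd f (τ3 j)) (c3.π.app j) :=
    isPullback_proj T3 τ3 f c3 t3 ht3 j
  refine ⟨j.unop, (s2 j.unop).R, (s2 j.unop).ring, (s2 j.unop).loc, (s2 j.unop).p, (s2 j.unop).hp, (s2 j.unop).g,
    (s2 j.unop).gl, (s2 j.unop).hg, W, ρ₀, hW, r, h1.paste_vert h2⟩

end Principal

section Data

theorem exists_data {R O : Type u} [CommRing R] [CommRing O] [HenselianLocalRing O] [IsSepClosed (ResidueField O)]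
    [Algebra R O] {S Y X : Scheme.{u}} (w : Spec (CommRingCat.of R) ⟶ S) (b : Y ⟶ S) (f : X ⟶ Y) [QuasiCompact f]
    [QuasiSeparated f] {A : Type u} [CommRing A] [IsLocalRing A]
    {σ : Spec (CommRingCat.of A) ⟶ pullback b (spm (algebraMap R O) ≫ w)} (hσ : IsStrictLoc σ)
    (G : Type) [Group G] [Finite G] (P : FEt.Cat (pullback f (σ ≫ pullback.fst b (spm (algebraMap R O) ≫ w))))
    (ρ : G →* Aut P) (hP : SGA1t.IsPrincipal G P ρ) :
    ∃ (R₀ : Type u) (_ : CommRing R₀) (_ : Algebra R R₀) (_ : Algebra.FiniteType R R₀)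
      (O₀ : Type u) (_ : CommRing O₀) (_ : IsLocalRing O₀) (τ₀ : Spec (CommRingCat.of O₀) ⟶ Spec (CommRingCat.of R₀))
      (_ : IsStrictLoc τ₀) (g : O₀ →+* O) (_ : IsLocalHom g)
      (_ : spm g ≫ τ₀ ≫ (spm (algebraMap R R₀) ≫ w) = spm (algebraMap R O) ≫ w) (A₀ : Type u) (_ : CommRing A₀) (_ : IsLocalRing A₀)
      (σ₀ : Spec (CommRingCat.of A₀) ⟶ pullback b (τ₀ ≫ (spm (algebraMap R R₀) ≫ w))) (_ : IsStrictLoc σ₀)
      (h : A₀ →+* A) (_ : IsLocalHom h)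
      (_ : spm h ≫ σ₀ ≫ pullback.fst b (τ₀ ≫ (spm (algebraMap R R₀) ≫ w)) =
        σ ≫ pullback.fst b (spm (algebraMap R O) ≫ w))
      (_ : spm h ≫ σ₀ ≫ pullback.snd b (τ₀ ≫ (spm (algebraMap R R₀) ≫ w)) =
        σ ≫ pullback.snd b (spm (algebraMap R O) ≫ w) ≫ spm g)
      (W : FEt.Cat (pullback f (σ₀ ≫ pullback.fst b (τ₀ ≫ (spm (algebraMap R R₀) ≫ w))))) (ρ₀ : G →* Aut W)
      (_ : SGA1t.IsPrincipal G W ρ₀) (r : P.left ⟶ W.left),
      IsPullback r (P.hom ≫ pullback.snd f (σ ≫ pullback.fst b (spm (algebraMap R O) ≫ w)))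
        (W.hom ≫ pullback.snd f (σ₀ ≫ pullback.fst b (τ₀ ≫ (spm (algebraMap R R₀) ≫ w)))) (spm h) := by
  let T0 : (FGSub R O)ᵒᵖ ⥤ Scheme.{u} := specSys (fgSys R O)
  let c0 : Cone T0 := specCone (fgSys R O) (fgCocone R O)
  have hc0 : IsLimit c0 := isLimitSpecCone _ _ (isColimitFG R O)
  have h0 : IsStrictLoc (X := c0.pt) (R := O) (𝟙 (Spec (CommRingCat.of O))) := Groth.Agent.Sga4h.SLoc.isStrictLoc_id O
  let s0 : ∀ j : FGSub R O, Stage T0 c0 (𝟙 (Spec (CommRingCat.of O))) j := fun j => (exists_stage T0 c0 h0 j).some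
  let v : ∀ a : (FGSub R O)ᵒᵖ, T0.obj a ⟶ S := fun a => spm (algebraMap R a.unop.1) ≫ w
  have hv : ∀ ⦃a a' : (FGSub R O)ᵒᵖ⦄ (h : a ⟶ a'), T0.map h ≫ v a' = v a := fun a a' h => by
    have e1 : spm (Subalgebra.inclusion h.unop.le).toRingHom ≫ spm (algebraMap R a'.unop.1) =
        spm (algebraMap R a.unop.1) := by
      rw [← spm_comp]
      rfl
    have e2 : (spm (Subalgebra.inclusion h.unop.le).toRingHom ≫ spm (algebraMap R a'.unop.1)) ≫ w =
        spm (algebraMap R a.unop.1) ≫ w := by rw [e1]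
    exact (Category.assoc _ _ _).symm.trans e2
  obtain ⟨hT⟩ := isLimit_Tc T0 c0 h0 s0 hc0
  let t : (Tc T0 c0 h0 s0).pt ⟶ S := spm (algebraMap R O) ≫ w
  have ht : ∀ a, (Tc T0 c0 h0 s0).π.app a ≫ str T0 c0 h0 s0 v a = t := fun a => by
    refine (π_str T0 c0 h0 s0 v a).trans ?_
    have e1 : spm a.unop.1.val.toRingHom ≫ spm (algebraMap R a.unop.1) = spm (algebraMap R O) := by
      rw [← spm_comp]
      rfl
    have e2 : (spm a.unop.1.val.toRingHom ≫ spm (algebraMap R a.unop.1)) ≫ w = spm (algebraMap R O) ≫ w := by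
      rw [e1]
    exact (Category.id_comp _).trans ((Category.assoc _ _ _).symm.trans e2)
  obtain ⟨j, A₀, i1, i2, σ₀, hσ₀, h, hh, e, W, ρ₀, hW, r, hr⟩ := exists_stage_principal (Ts T0 c0 h0 s0)
    (str T0 c0 h0 s0 v) (str_w T0 c0 h0 s0 v hv) (Tc T0 c0 h0 s0) t ht b f hT hσ G P ρ hP
  have hft : Algebra.FiniteType R j.1 := (Subalgebra.fg_iff_finiteType j.1).1 j.2
  refine ⟨j.1, inferInstance, inferInstance, hft, (s0 j).R, (s0 j).ring, (s0 j).loc, (s0 j).p, (s0 j).hp, (s0 j).g,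
    (s0 j).gl, ht (op j), A₀, i1, i2, σ₀, hσ₀, h, hh, ?_, ?_, W, ρ₀, hW, r, hr⟩
  · have e1 := congrArg (· ≫ pullback.fst b (str T0 c0 h0 s0 v (op j))) e
    refine (Category.assoc _ _ _).symm.trans (e1.trans ((Category.assoc _ _ _).trans ?_))
    exact congrArg (σ ≫ ·) (proj_fst (Ts T0 c0 h0 s0) (str T0 c0 h0 s0 v) b (Tc T0 c0 h0 s0) t ht (op j))
  · have e1 := congrArg (· ≫ pullback.snd b (str T0 c0 h0 s0 v (op j))) e
    refine (Category.assoc _ _ _).symm.trans (e1.trans ((Category.assoc _ _ _).trans ?_))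
    exact congrArg (σ ≫ ·) (proj_snd (Ts T0 c0 h0 s0) (str T0 c0 h0 s0 v) b (Tc T0 c0 h0 s0) t ht (op j))

end Data

end K945.Lim
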